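import Groth.Agent.Lib.DefoExt26.Basic
import Groth.Agent.Lib.OX.TensorCx
import Groth.Agent.Lib.OX.LocFreeTensor
import Groth.Agent.Lib.FunMor20.Scalar
import Groth.Agent.Lib.QCoh.ToSheaf
import Groth.Prelude.Def_DefoConn

/-!
# Deformations of connections over a first-order deformation
-/

set_option autoImplicit false
set_option backward.isDefEq.respectTransparency false
universe u

noncomputable section

open CategoryTheory CategoryTheory.Limits AlgebraicGeometry ArtFun ArtFun.Art Opposite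

namespace GrothLib.DefoExt26

open DefoSh

variable {k : Type u} [Field k] {X : Scheme.{u}} {Ω' : X.Modules}

/-- Modules as abelian sheaves. -/
abbrev Fab {M N : X.Modules} (f : M ⟶ N) : Coh.toAb M ⟶ Coh.toAb N :=
  (SheafOfModules.toSheaf X.ringCatSheaf).map f

variable (Ω') in
/-- The tensor product with the receptacle. -/
abbrev G : X.Modules ⥤ X.Modules := (DCoh.tensorBi (X := X)).flip.obj Ω'

theorem G_map {M N : X.Modules} (f : M ⟶ N) : (G Ω').map f = KoszTw.tensorMap f (𝟙 Ω') :=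
  KoszTw.tensorBi_map_app f Ω'

variable (Ω') in
/-- Tensoring a morphism with the receptacle. -/
def tm {M N : X.Modules} (f : M ⟶ N) : CohB1.tensorMod M Ω' ⟶ CohB1.tensorMod N Ω' :=
  KoszTw.tensorMap f (𝟙 Ω')

theorem tm_eq {M N : X.Modules} (f : M ⟶ N) : tm Ω' f = (G Ω').map f := (G_map f).symm

theorem tm_comp {M N P : X.Modules} (f : M ⟶ N) (g : N ⟶ P) : tm Ω' (f ≫ g) = tm Ω' f ≫ tm Ω' g :=
  (tm_eq _).trans (((G Ω').map_comp f g).trans (congrArg₂ (· ≫ ·) (tm_eq f).symm (tm_eq g).symm))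

theorem tm_add {M N : X.Modules} (f g : M ⟶ N) : tm Ω' (f + g) = tm Ω' f + tm Ω' g :=
  (tm_eq _).trans ((Functor.map_add (F := G Ω') (f := f) (g := g)).trans (congrArg₂ (· + ·) (tm_eq f).symm (tm_eq g).symm))

theorem tm_sub {M N : X.Modules} (f g : M ⟶ N) : tm Ω' (f - g) = tm Ω' f - tm Ω' g :=
  (tm_eq _).trans ((Functor.map_sub (F := G Ω') (f := f) (g := g)).trans (congrArg₂ (· - ·) (tm_eq f).symm (tm_eq g).symm))

theorem tm_zero (M N : X.Modules) : tm Ω' (0 : M ⟶ N) = 0 :=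
  (tm_eq _).trans ((G Ω').map_zero M N)

theorem tm_id (M : X.Modules) : tm Ω' (𝟙 M) = 𝟙 _ := (tm_eq _).trans ((G Ω').map_id M)

theorem secApp_ext {M N : X.Modules} {T T' : Coh.toAb M ⟶ Coh.toAb N}
    (h : ∀ (U : X.Opens) (e : M.val.obj (op U)), ConnSh.secApp T U e = ConnSh.secApp T' U e) : T = T' :=
  Sheaf.hom_ext (NatTrans.ext (funext fun U => ConcreteCategory.hom_ext _ _ fun e => h U.unop e))

theorem isHorizontal_iff {M M' : X.Modules} (c : Coh.toAb M ⟶ Coh.toAb (CohB1.tensorMod M Ω'))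
    (c' : Coh.toAb M' ⟶ Coh.toAb (CohB1.tensorMod M' Ω')) (φ : M ⟶ M') :
    ConnSh.IsHorizontal c c' φ ↔ Fab φ ≫ c' = c ≫ Fab (tm Ω' φ) := by
  exact ⟨fun h => secApp_ext h, fun h U e => congrArg (fun T => ConnSh.secApp T U e) h⟩

/-- A morphism of abelian sheaves linear on sections comes from a morphism of modules. -/
theorem exists_fab {M N : X.Modules} (T : Coh.toAb M ⟶ Coh.toAb N)
    (h : ∀ (U : X.Opens) (t : Γ(X, U)) (e : M.val.obj (op U)), ConnSh.secApp T U (t • e) = t • ConnSh.secApp T U e) :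
    ∃ f : M ⟶ N, Fab f = T :=
  ⟨⟨PresheafOfModules.homMk T.hom fun U t e => h U.unop t e⟩,
    secApp_ext fun _ _ => rfl⟩

theorem secApp_fab {M N : X.Modules} (f : M ⟶ N) (U : X.Opens) (t : Γ(X, U)) (e : M.val.obj (op U)) :
    ConnSh.secApp (Fab f) U (t • e) = t • ConnSh.secApp (Fab f) U e :=
  ((f.val.app (op U)).hom.map_smul t e :)

variable [X.Over (Spec (CommRingCat.of k))] {δ : OmegaSh.Der (X ↘ Spec (CommRingCat.of k)) Ω'}
  {E : X.Modules} {nabla : Coh.toAb E ⟶ Coh.toAb (CohB1.tensorMod E Ω')}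

theorem isConn_add {M : X.Modules} {c : Coh.toAb M ⟶ Coh.toAb (CohB1.tensorMod M Ω')}
    (hc : ConnSh.IsConn δ M c) (f : M ⟶ CohB1.tensorMod M Ω') : ConnSh.IsConn δ M (c + Fab f) := by
  intro U t e
  show ConnSh.secApp c U (t • e) + ConnSh.secApp (Fab f) U (t • e) =
    t • (ConnSh.secApp c U e + ConnSh.secApp (Fab f) U e) + _
  rw [hc, secApp_fab, smul_add]
  abel

theorem exists_fab_sub {M : X.Modules} {c c' : Coh.toAb M ⟶ Coh.toAb (CohB1.tensorMod M Ω')}
    (hc : ConnSh.IsConn δ M c) (hc' : ConnSh.IsConn δ M c') : ∃ f : M ⟶ CohB1.tensorMod M Ω', Fab f = c - c' := by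
  refine exists_fab _ fun U t e => ?_
  show ConnSh.secApp c U (t • e) - ConnSh.secApp c' U (t • e) =
    t • (ConnSh.secApp c U e - ConnSh.secApp c' U e)
  rw [hc, hc', smul_sub]
  abel

theorem map_smulMod (M : X.Modules) (a : k) :
    tm Ω' (Formal.smulMod k M a) = Formal.smulMod k (CohB1.tensorMod M Ω') a :=
  (tm_eq _).trans (FunMor20.tensor_map_smulModΓ M Ω' _)

theorem comp_smulMod {M N : X.Modules} (f : M ⟶ N) (a : k) :
    f ≫ Formal.smulMod k N a = Formal.smulMod k M a ≫ f :=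
  KLin.comp_smulModΓ f _

theorem tmul_add_left (M N : X.Modules) (U : X.Opens) (m m' : M.val.obj (op U)) (n : N.val.obj (op U)) :
    SecTwist.tmul M N U (m + m') n = SecTwist.tmul M N U m n + SecTwist.tmul M N U m' n :=
  (congrArg ((SecTwist.toTensor M N).app (op U)).hom (TensorProduct.add_tmul m m' n)).trans (map_add _ _ _)

theorem tmul_zero_right (M N : X.Modules) (U : X.Opens) (m : M.val.obj (op U)) :
    SecTwist.tmul M N U m 0 = 0 :=
  (congrArg ((SecTwist.toTensor M N).app (op U)).hom (TensorProduct.tmul_zero _ m)).trans (map_zero _)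

theorem der_const (a : k) (U : X.Opens) :
    δ.app U (X.presheaf.map (homOfLE (le_top : U ≤ ⊤)).op
      (Coh.toGlobal (X ↘ Spec (CommRingCat.of k)) a)) = 0 := by
  have h0 : δ.app ⊤ (Coh.toGlobal (X ↘ Spec (CommRingCat.of k)) a) = 0 :=
    δ.d_app (X := op ⊤) ((Scheme.ΓSpecIso (CommRingCat.of k)).inv.hom a)
  refine (δ.d_map (homOfLE (le_top : U ≤ ⊤)).op _).trans ?_
  rw [show δ.d (X := op ⊤) (Coh.toGlobal (X ↘ Spec (CommRingCat.of k)) a) = 0 from h0]
  exact map_zero _

theorem comp_conn_smulMod {M : X.Modules} {c : Coh.toAb M ⟶ Coh.toAb (CohB1.tensorMod M Ω')}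
    (hc : ConnSh.IsConn δ M c) (a : k) :
    Fab (Formal.smulMod k M a) ≫ c = c ≫ Fab (Formal.smulMod k (CohB1.tensorMod M Ω') a) :=
  secApp_ext fun U e => by
    show ConnSh.secApp c U (X.presheaf.map (homOfLE (le_top : U ≤ ⊤)).op
      (Coh.toGlobal (X ↘ Spec (CommRingCat.of k)) a) • e) =
        X.presheaf.map (homOfLE (le_top : U ≤ ⊤)).op (Coh.toGlobal (X ↘ Spec (CommRingCat.of k)) a) •
          ConnSh.secApp c U e
    rw [hc, der_const, tmul_zero_right, add_zero]

theorem act_eq' (D : Defo E (dual k k)) (z : dual k k) :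
    (D.act z : D.sheaf ⟶ D.sheaf) = Formal.smulMod k D.sheaf (TrivSqZeroExt.fst (R := k) (M := k) z) +
      (Formal.smulMod k D.sheaf (TrivSqZeroExt.snd (R := k) (M := k) z) ≫ D.act (ε k) : D.sheaf ⟶ D.sheaf) := by
  rw [act_eq D z, End.one_def, KLin.smul_id, KLin.smul_def]

/-- Horizontality for the whole action follows from that of the infinitesimal. -/
theorem act_horizontal_of_eps (D : Defo E (dual k k)) {c c' : Coh.toAb D.sheaf ⟶ Coh.toAb (CohB1.tensorMod D.sheaf Ω')}
    (hc : ConnSh.IsConn δ D.sheaf c)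
    (h : Fab (D.act (ε k)) ≫ c = c ≫ Fab (tm Ω' (D.act (ε k)))) (z : dual k k) :
    ConnSh.IsHorizontal c c (D.act z) := by
  rw [isHorizontal_iff, act_eq' D z, tm_add, tm_comp]
  simp only [Fab] at h ⊢
  simp only [Functor.map_add, Functor.map_comp, Preadditive.add_comp, Preadditive.comp_add, map_smulMod]
  rw [Category.assoc, h, ← Category.assoc]
  congr 1
  · exact comp_conn_smulMod hc _
  · rw [show _ ≫ c = c ≫ _ from comp_conn_smulMod hc (TrivSqZeroExt.snd (R := k) (M := k) z), Category.assoc]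

variable {D : Defo E (dual k k)} {i : E ⟶ D.sheaf} (hi : D.π ≫ i = D.act (ε k))

theorem epi_fab_π : Epi (Fab D.π) :=
  haveI := epi_π D
  QCoh.toSheaf_map_epi D.π

include hi

theorem incl_π : i ≫ D.π = 0 := by
  haveI := epi_π D
  rw [← cancel_epi D.π, ← Category.assoc, hi, comp_zero]
  exact D.act_π _ res_eps

theorem shortExact_incl : (ShortComplex.mk i D.π (incl_π hi)).ShortExact := by
  obtain ⟨i', hi', h0, hS⟩ := exists_incl D
  haveI := epi_π D
  obtain rfl : i = i' := by rw [← cancel_epi D.π, hi, hi']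
  exact hS

theorem shortExact_G (hE : FlatMod.IsFinLocFree E) :
    ((ShortComplex.mk i D.π (incl_π hi)).map (G Ω')).ShortExact :=
  ShortComplex.shortExact_of_iso (ShortComplex.mapNatIso _ (OX.tensorBraiding.app Ω')).symm
    (OX.tensor_left_shortExact Ω' (shortExact_incl hi) (OX.flat_of_isFinLocFree hE))

theorem mono_G (hE : FlatMod.IsFinLocFree E) : Mono (tm Ω' i) := by
  rw [tm_eq]
  exact (shortExact_G hi hE).mono_f

theorem conn_incl (c : DefoConn δ nabla D) : Fab i ≫ c.conn = nabla ≫ Fab (tm Ω' i) := by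
  haveI := epi_fab_π (D := D)
  have hπ := (isHorizontal_iff c.conn nabla D.π).1 c.π_horizontal
  have hε := (isHorizontal_iff c.conn c.conn _).1 (c.act_horizontal (ε k))
  rw [← cancel_epi (Fab D.π), ← Category.assoc, ← Functor.map_comp, hi]
  refine hε.trans ?_
  rw [← hi, tm_comp]
  simp only [Fab, Functor.map_comp]
  rw [← Category.assoc, ← hπ, Category.assoc]

theorem exists_defoConn_equiv (hE : FlatMod.IsFinLocFree E) (c₀ : DefoConn δ nabla D) :
    ∃ Φ : DefoConn δ nabla D ≃ (E ⟶ CohB1.tensorMod E Ω'),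
      ∀ c : DefoConn δ nabla D,
        c.conn - c₀.conn = (SheafOfModules.toSheaf X.ringCatSheaf).map (D.π ≫ Φ c ≫ KoszTw.tensorMap i (𝟙 Ω')) := by
  haveI := epi_π D
  haveI := mono_G (Ω' := Ω') hi hE
  let f : (E ⟶ CohB1.tensorMod E Ω') → (D.sheaf ⟶ CohB1.tensorMod D.sheaf Ω') :=
    fun P => D.π ≫ P ≫ tm Ω' i
  have hf : Function.Injective f := fun P Q h => by
    have h1 : D.π ≫ P ≫ tm Ω' i = D.π ≫ Q ≫ tm Ω' i := h
    exact (cancel_mono (tm Ω' i)).1 ((cancel_epi D.π).1 h1)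
  have hεl : ∀ P, D.act (ε k) ≫ f P = 0 := fun P => by
    show _ ≫ D.π ≫ _ = 0
    rw [← hi, Category.assoc, reassoc_of% (incl_π hi), zero_comp, comp_zero]
  have hεr : ∀ P, f P ≫ tm Ω' (D.act (ε k)) = 0 := fun P => by
    show (D.π ≫ P ≫ _) ≫ _ = 0
    rw [← hi, Category.assoc, Category.assoc, ← tm_comp, reassoc_of% (incl_π hi), zero_comp,
      tm_zero, comp_zero, comp_zero]
  let mkc : (E ⟶ CohB1.tensorMod E Ω') → DefoConn δ nabla D := fun P =>
    { conn := c₀.conn + Fab (f P)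
      isConn := isConn_add c₀.isConn _
      act_horizontal := act_horizontal_of_eps (c' := c₀.conn) D (isConn_add c₀.isConn _) (by
        have h0 := (isHorizontal_iff c₀.conn c₀.conn _).1 (c₀.act_horizontal (ε k))
        simp only [Fab] at h0 ⊢
        rw [Preadditive.comp_add, Preadditive.add_comp, h0, ← Functor.map_comp, ← Functor.map_comp, hεl, hεr])
      π_horizontal := by
        have h0 := (isHorizontal_iff c₀.conn nabla D.π).1 c₀.π_horizontal
        rw [isHorizontal_iff]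
        simp only [Fab] at h0 ⊢
        rw [Preadditive.add_comp, ← Functor.map_comp]
        have e : f P ≫ tm Ω' D.π = 0 := by
          show (D.π ≫ P ≫ _) ≫ _ = 0
          rw [Category.assoc, Category.assoc, ← tm_comp, incl_π hi, tm_zero, comp_zero, comp_zero]
        rw [e, Functor.map_zero, add_zero]
        exact h0 }
  have hbij : Function.Bijective mkc := by
    refine ⟨fun P Q h => hf ((SheafOfModules.toSheaf X.ringCatSheaf).map_injective
      (add_left_cancel (congrArg DefoConn.conn h : c₀.conn + _ = c₀.conn + _))), fun c => ?_⟩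
    obtain ⟨T, hT⟩ := exists_fab_sub c.isConn c₀.isConn
    have hπ := (isHorizontal_iff c.conn nabla D.π).1 c.π_horizontal
    have hπ₀ := (isHorizontal_iff c₀.conn nabla D.π).1 c₀.π_horizontal
    have hTπ : T ≫ tm Ω' D.π = 0 := (SheafOfModules.toSheaf X.ringCatSheaf).map_injective (by
      simp only [Fab] at hT hπ hπ₀
      rw [Functor.map_comp, Functor.map_zero, hT, Preadditive.sub_comp]
      exact sub_eq_zero.2 (hπ.symm.trans hπ₀))
    let hx := shortExact_G (Ω' := Ω') hi hE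
    haveI : Mono ((ShortComplex.mk i D.π (incl_π hi)).map (G Ω')).f := hx.mono_f
    let T₁ : D.sheaf ⟶ CohB1.tensorMod E Ω' := hx.exact.lift T ((congrArg (T ≫ ·) (tm_eq D.π)).symm.trans hTπ)
    have hT₁ : T₁ ≫ tm Ω' i = T := (congrArg (T₁ ≫ ·) (tm_eq i)).trans (hx.exact.lift_f T _)
    have hεT : D.act (ε k) ≫ T = T ≫ tm Ω' (D.act (ε k)) := (SheafOfModules.toSheaf X.ringCatSheaf).map_injective (by
      have h1 := (isHorizontal_iff c.conn c.conn _).1 (c.act_horizontal (ε k))
      have h2 := (isHorizontal_iff c₀.conn c₀.conn _).1 (c₀.act_horizontal (ε k))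
      simp only [Fab] at h1 h2 hT
      rw [Functor.map_comp, Functor.map_comp, hT, Preadditive.comp_sub, Preadditive.sub_comp, h1, h2])
    have hiT : i ≫ T₁ = 0 := by
      rw [← cancel_mono (tm Ω' i), Category.assoc, hT₁, zero_comp, ← cancel_epi D.π, ← Category.assoc, hi, hεT,
        comp_zero, ← hi, tm_comp, ← Category.assoc, hTπ, zero_comp]
    haveI : Epi (ShortComplex.mk i D.π (incl_π hi)).g := epi_π D
    let P : E ⟶ CohB1.tensorMod E Ω' := (shortExact_incl hi).exact.desc T₁ hiT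
    have hP : D.π ≫ P = T₁ := (shortExact_incl hi).exact.g_desc T₁ hiT
    refine ⟨P, ?_⟩
    have e : c₀.conn + Fab (f P) = c.conn := by
      show c₀.conn + Fab (D.π ≫ P ≫ tm Ω' i) = c.conn
      rw [← Category.assoc D.π, hP, hT₁, hT, add_sub_cancel]
    cases c
    exact DefoConn.mk.injEq .. |>.mpr e
  refine ⟨(Equiv.ofBijective mkc hbij).symm, fun c => ?_⟩
  obtain ⟨P, rfl⟩ := hbij.2 c
  rw [show (Equiv.ofBijective mkc hbij).symm (mkc P) = P from (Equiv.ofBijective mkc hbij).symm_apply_apply P]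
  exact add_sub_cancel_left c₀.conn (Fab (f P))

theorem transport_iff (hE : FlatMod.IsFinLocFree E) (c c' : DefoConn δ nabla D) :
    DefoConn.Transport c c' ↔ ∃ S : E ⟶ E,
      c'.conn - c.conn = (SheafOfModules.toSheaf X.ringCatSheaf).map D.π ≫
        (nabla ≫ (SheafOfModules.toSheaf X.ringCatSheaf).map (KoszTw.tensorMap S (𝟙 Ω')) -
            (SheafOfModules.toSheaf X.ringCatSheaf).map S ≫ nabla) ≫
          (SheafOfModules.toSheaf X.ringCatSheaf).map (KoszTw.tensorMap i (𝟙 Ω')) := by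
  haveI := epi_π D
  have hπ := (isHorizontal_iff c.conn nabla D.π).1 c.π_horizontal
  have hI := conn_incl hi c'
  simp only [Fab] at hπ hI
  have key : ∀ S : E ⟶ E,
      ConnSh.IsHorizontal c.conn c'.conn (𝟙 D.sheaf + D.π ≫ S ≫ i) ↔
      c'.conn - c.conn = (SheafOfModules.toSheaf X.ringCatSheaf).map D.π ≫
        (nabla ≫ (SheafOfModules.toSheaf X.ringCatSheaf).map (KoszTw.tensorMap S (𝟙 Ω')) -
            (SheafOfModules.toSheaf X.ringCatSheaf).map S ≫ nabla) ≫
          (SheafOfModules.toSheaf X.ringCatSheaf).map (KoszTw.tensorMap i (𝟙 Ω')) := by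
    intro S
    rw [isHorizontal_iff]
    change _ ↔ c'.conn - c.conn = (SheafOfModules.toSheaf X.ringCatSheaf).map D.π ≫
      (nabla ≫ (SheafOfModules.toSheaf X.ringCatSheaf).map (tm Ω' S) -
          (SheafOfModules.toSheaf X.ringCatSheaf).map S ≫ nabla) ≫
        (SheafOfModules.toSheaf X.ringCatSheaf).map (tm Ω' i)
    simp only [Fab, tm_add, tm_comp, tm_id, Functor.map_add, Functor.map_comp, CategoryTheory.Functor.map_id, Preadditive.add_comp,
      Preadditive.comp_add, Category.id_comp, Category.comp_id, Category.assoc, Preadditive.sub_comp,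
      Preadditive.comp_sub, hI]
    rw [← reassoc_of% hπ, sub_eq_sub_iff_add_eq_add, add_comm]
    constructor <;> intro h <;> rw [h] <;> abel
  constructor
  · rintro ⟨e, he⟩
    let N := e.iso.hom - 𝟙 D.sheaf
    have hNπ : N ≫ D.π = 0 := by rw [Preadditive.sub_comp, e.hom_π, Category.id_comp, sub_self]
    have hx := (shortExact_incl hi).exact
    haveI : Mono (ShortComplex.mk i D.π (incl_π hi)).f := (shortExact_incl hi).mono_f
    haveI : Mono i := (shortExact_incl hi).mono_f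
    let N₁ : D.sheaf ⟶ E := hx.lift N hNπ
    have hN₁ : N₁ ≫ i = N := hx.lift_f N hNπ
    have hiN : i ≫ N₁ = 0 := by
      rw [← cancel_mono i, Category.assoc, hN₁, zero_comp, ← cancel_epi D.π, ← Category.assoc, hi, comp_zero,
        Preadditive.comp_sub, e.act_hom, Category.comp_id]
      have e2 : e.iso.hom ≫ D.act (ε k) = D.act (ε k) := by
        rw [← hi, ← Category.assoc, e.hom_π]
      rw [e2, sub_self]
    haveI : Epi (ShortComplex.mk i D.π (incl_π hi)).g := epi_π D
    refine ⟨hx.desc N₁ hiN, (key _).1 ?_⟩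
    have hdesc : D.π ≫ hx.desc N₁ hiN = N₁ := hx.g_desc N₁ hiN
    rw [← Category.assoc, hdesc, hN₁, add_sub_cancel]
    exact he
  · rintro ⟨S, hS⟩
    have hsq : (D.π ≫ S ≫ i) ≫ (D.π ≫ S ≫ i) = 0 := by
      simp only [Category.assoc]
      rw [reassoc_of% (incl_π hi), zero_comp, comp_zero, comp_zero]
    let e : D.sheaf ≅ D.sheaf :=
      { hom := 𝟙 _ + D.π ≫ S ≫ i
        inv := 𝟙 _ - D.π ≫ S ≫ i
        hom_inv_id := by
          rw [Preadditive.add_comp, Preadditive.comp_sub, Preadditive.comp_sub, hsq, Category.id_comp,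
            Category.id_comp, Category.comp_id, sub_zero, sub_add_cancel]
        inv_hom_id := by
          rw [Preadditive.sub_comp, Preadditive.comp_add, Preadditive.comp_add, hsq, Category.id_comp,
            Category.id_comp, Category.comp_id, add_zero, add_sub_cancel_right] }
    refine ⟨⟨e, fun a => ?_, ?_⟩, (key S).2 hS⟩
    · show D.act a ≫ (𝟙 _ + D.π ≫ S ≫ i) = (𝟙 _ + D.π ≫ S ≫ i) ≫ D.act a
      have h1 : D.act (ε k) ≫ (D.π ≫ S ≫ i) = 0 := by
        rw [← hi, Category.assoc, reassoc_of% (incl_π hi), zero_comp, comp_zero]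
      have h2 : (D.π ≫ S ≫ i) ≫ D.act (ε k) = 0 := by
        rw [← hi, Category.assoc, Category.assoc, reassoc_of% (incl_π hi), zero_comp, comp_zero, comp_zero]
      rw [Preadditive.add_comp, Preadditive.comp_add, Category.comp_id, Category.id_comp, act_eq' D a]
      congr 1
      rw [Preadditive.add_comp, Preadditive.comp_add, Category.assoc, h1, comp_zero, add_zero, comp_smulMod,
        ← Category.assoc (D.π ≫ S ≫ i), comp_smulMod, Category.assoc, h2, comp_zero, add_zero]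
    · show (𝟙 _ + D.π ≫ S ≫ i) ≫ D.π = D.π
      rw [Preadditive.add_comp, Category.id_comp, Category.assoc, Category.assoc, incl_π hi, comp_zero, comp_zero,
        add_zero]

omit hi

theorem nonempty_trivDual (hn : ConnSh.IsConn δ E nabla) : Nonempty (DefoConn δ nabla (Defo.trivDual k E)) := by
  let c : Coh.toAb (E ⊞ E) ⟶ Coh.toAb (CohB1.tensorMod (E ⊞ E) Ω') :=
    Fab (biprod.fst : E ⊞ E ⟶ E) ≫ nabla ≫ Fab (tm Ω' biprod.inl) +
      Fab (biprod.snd : E ⊞ E ⟶ E) ≫ nabla ≫ Fab (tm Ω' biprod.inr)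
  have hpart : ∀ (p : E ⊞ E ⟶ E) (q : E ⟶ E ⊞ E) (U : X.Opens) (t : Γ(X, U)) (e : (E ⊞ E).val.obj (op U)),
      ConnSh.secApp (Fab p ≫ nabla ≫ Fab (tm Ω' q)) U (t • e) =
        t • ConnSh.secApp (Fab p ≫ nabla ≫ Fab (tm Ω' q)) U e +
          SecTwist.tmul (E ⊞ E) Ω' U ((p ≫ q).app U e) (δ.app U t) := by
    intro p q U t e
    show ConnSh.secApp (Fab (tm Ω' q)) U (ConnSh.secApp nabla U (ConnSh.secApp (Fab p) U (t • e))) = _
    rw [secApp_fab, hn, map_add, secApp_fab]
    congr 1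
    exact KoszTw.tensorMap_tmul q (𝟙 Ω') U _ _
  have hc : ConnSh.IsConn δ (E ⊞ E) c := by
    intro U t e
    show ConnSh.secApp (Fab (biprod.fst : E ⊞ E ⟶ E) ≫ nabla ≫ Fab (tm Ω' biprod.inl)) U (t • e) +
      ConnSh.secApp (Fab (biprod.snd : E ⊞ E ⟶ E) ≫ nabla ≫ Fab (tm Ω' biprod.inr)) U (t • e) = _
    rw [hpart, hpart, add_add_add_comm, ← smul_add, ← tmul_add_left]
    congr 2
    show (biprod.fst ≫ biprod.inl + biprod.snd ≫ biprod.inr : E ⊞ E ⟶ E ⊞ E).app U e = e
    rw [biprod.total]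
    rfl
  have hεd : ((Defo.trivDual k E).act (ε k) : E ⊞ E ⟶ E ⊞ E) = biprod.fst ≫ biprod.inr := dualAct_eps E
  have e1 : tm Ω' (biprod.inl : E ⟶ E ⊞ E) ≫ tm Ω' biprod.fst = 𝟙 _ := by
    rw [← tm_comp, biprod.inl_fst, tm_id]
  have e2 : tm Ω' (biprod.inr : E ⟶ E ⊞ E) ≫ tm Ω' biprod.fst = 0 := by
    rw [← tm_comp, biprod.inr_fst, tm_zero]
  refine ⟨⟨c, hc, act_horizontal_of_eps (c' := c) (Defo.trivDual k E) hc ?_, ?_⟩⟩
  · rw [hεd]
    show Fab (biprod.fst ≫ biprod.inr : E ⊞ E ⟶ E ⊞ E) ≫ c = c ≫ Fab (tm Ω' (biprod.fst ≫ biprod.inr))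
    rw [tm_comp]
    simp only [c, Fab, Preadditive.comp_add, Preadditive.add_comp, Category.assoc, ← Functor.map_comp_assoc,
      ← Functor.map_comp, biprod.inr_fst, biprod.inr_snd, biprod.inl_fst_assoc, biprod.inr_fst_assoc, reassoc_of% e1,
      reassoc_of% e2, comp_zero, zero_comp, Functor.map_zero, Category.comp_id, add_zero, zero_add]
  · rw [isHorizontal_iff]
    show Fab (biprod.fst : E ⊞ E ⟶ E) ≫ nabla = c ≫ Fab (tm Ω' (biprod.fst : E ⊞ E ⟶ E))
    simp only [c, Fab, Preadditive.add_comp, Category.assoc, ← Functor.map_comp, e1, e2,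
      CategoryTheory.Functor.map_id, Functor.map_zero, comp_zero, add_zero, Category.comp_id]

end GrothLib.DefoExt26
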