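import Groth.Agent.Lib.DefoExt26.HomShSeq
import Groth.Agent.Lib.DefoExt26.Conn
import Groth.Agent.Lib.QCoh.Abelian

/-!
# First-order deformations of finite locally free modules are locally trivial
-/

set_option autoImplicit false
set_option linter.style.haveILetI false
set_option backward.isDefEq.respectTransparency false
universe u

noncomputable section

open CategoryTheory CategoryTheory.Limits AlgebraicGeometry Opposite TopologicalSpace ArtFun ArtFun.Art

namespace GrothLib.DefoExt26

open DefoSh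

variable {X : Scheme.{u}}

/-- A section of the sheaf Hom over an open subscheme gives a morphism of the restrictions. -/
theorem exists_restrict_hom {M N : X.Modules} {V : X.Opens} (g : Γ(RefHull.homSh M N, V)) :
    ∃ φ : M.restrict V.ι ⟶ N.restrict V.ι, ∀ (W : (V : Scheme.{u}).Opens) (m : Γ(M, V.ι ''ᵁ W)) (y : X)
      (hy : y ∈ V.ι ''ᵁ W), N.presheaf.germ (V.ι ''ᵁ W) y hy (φ.app W m) =
        g.1 ⟨y, V.ι_image_le W hy⟩ (M.presheaf.germ (V.ι ''ᵁ W) y hy m) := by
  let r : ∀ W : X.Opens, W ≤ V → Γ(RefHull.homSh M N, W) := fun W h =>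
    (RefHull.homSh M N).presheaf.map (homOfLE h).op g
  choose app happ using fun (W : (V : Scheme.{u}).Opens) (m : Γ(M, V.ι ''ᵁ W)) =>
    (HomSh.existsUnique_apply (r _ (V.ι_image_le W)) m).exists
  have happ' : ∀ (W : (V : Scheme.{u}).Opens) (m : Γ(M, V.ι ''ᵁ W)) (y : X) (hy : y ∈ V.ι ''ᵁ W),
      g.1 ⟨y, V.ι_image_le W hy⟩ (M.presheaf.germ _ y hy m) = N.presheaf.germ _ y hy (app W m) :=
    fun W m y hy => happ W m y hy
  let α : (M.restrict V.ι).presheaf ⟶ (N.restrict V.ι).presheaf :=
    { app := fun W => AddCommGrpCat.ofHom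
        { toFun := app W.unop
          map_zero' := HomColim20.section_ext_germ N fun y hy => by
            refine (happ' _ _ y hy).symm.trans ?_
            erw [map_zero, map_zero, map_zero]
          map_add' := fun a b => HomColim20.section_ext_germ N fun y hy => by
            refine (happ' _ _ y hy).symm.trans ?_
            erw [map_add, map_add, map_add, happ', happ'] }
      naturality := fun W W' i => by
        ext m
        refine HomColim20.section_ext_germ N fun y hy => ?_
        refine (happ' W'.unop (M.presheaf.map (V.ι.opensFunctor.map i.unop).op m) y hy).symm.trans ?_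
        erw [TopCat.Presheaf.germ_res_apply, TopCat.Presheaf.germ_res_apply]
        exact happ' W.unop m y _ }
  exact ⟨⟨PresheafOfModules.homMk α fun W (a : Γ((V : Scheme.{u}), W.unop)) (m : Γ(M.restrict V.ι, W.unop)) =>
      HomColim20.section_ext_germ N fun y hy => by
        let b : Γ(X, V.ι ''ᵁ W.unop) := (V.ι.appIso W.unop).inv a
        let m' : Γ(M, V.ι ''ᵁ W.unop) := m
        have e1 : (M.restrictAppIso V.ι W.unop).hom (a • m) = b • m' :=
          Scheme.Modules.smul_restrictAppIso_hom_apply _ _ _ _ _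
        have e2 : (N.restrictAppIso V.ι W.unop).hom
            (a • (show Γ(N.restrict V.ι, W.unop) from app W.unop m')) = b • app W.unop m' :=
          Scheme.Modules.smul_restrictAppIso_hom_apply _ _ _ _ _
        show N.presheaf.germ (V.ι ''ᵁ W.unop) y hy (app W.unop ((M.restrictAppIso V.ι W.unop).hom (a • m))) =
          N.presheaf.germ (V.ι ''ᵁ W.unop) y hy ((N.restrictAppIso V.ι W.unop).hom
            (a • (show Γ(N.restrict V.ι, W.unop) from app W.unop m')))
        rw [e1, e2, ← happ', Mero.germ_smul, Mero.germ_smul, map_smul, happ']⟩,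
    fun W m y hy => (happ' W m y hy).symm⟩

/-- A morphism surjective over framed affine opens has local sections. -/
theorem exists_section_nhd {E D : X.Modules} (π : D ⟶ E) (hE : FlatMod.IsFinLocFree E)
    (hsurj : ∀ W : X.Opens, IsAffineOpen W → Function.Surjective (π.app W)) (x : X) :
    ∃ V : X.Opens, x ∈ V ∧ ∃ s : E.restrict V.ι ⟶ D.restrict V.ι,
      s ≫ (Scheme.Modules.restrictFunctor V.ι).map π = 𝟙 _ := by
  obtain ⟨U, n, e, hxU, he⟩ := FinCov.exists_frame_nhd hE x
  obtain ⟨V, hV, hxV, hVU⟩ := exists_isAffineOpen_mem_and_subset hxU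
  obtain ⟨g, hg⟩ := post_surjective (E := E) π he hVU (hsurj V hV) (RefHull.ofHom (𝟙 E) V)
  obtain ⟨s, hs⟩ := exists_restrict_hom g
  refine ⟨V, hxV, s, Scheme.Modules.hom_ext _ _ fun W => ?_⟩
  ext m
  refine HomColim20.section_ext_germ E fun y hy => ?_
  show E.presheaf.germ (V.ι ''ᵁ W) y hy (π.app (V.ι ''ᵁ W) (s.app W m)) = _
  rw [stalkMapₗ_app, hs W m y hy]
  refine (LinearMap.congr_fun (congrFun (congrArg Subtype.val hg) ⟨y, V.ι_image_le W hy⟩) _).trans ?_
  exact stalkMapₗ_id_apply y _

variable {k : Type u} [Field k] [X.Over (Spec (CommRingCat.of k))] {E : X.Modules}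

theorem exists_iso_trivDual (hE : FlatMod.IsFinLocFree E) (D : Defo E (dual k k)) (x : X) :
    ∃ (U : X.Opens) (e : D.sheaf.restrict U.ι ≅ (Defo.trivDual k E).sheaf.restrict U.ι), x ∈ U ∧
      e.hom ≫ (Scheme.Modules.restrictFunctor U.ι).map (Defo.trivDual k E).π =
        (Scheme.Modules.restrictFunctor U.ι).map D.π ∧
      ∀ a : dual k k, (Scheme.Modules.restrictFunctor U.ι).map (D.act a) ≫ e.hom =
        e.hom ≫ (Scheme.Modules.restrictFunctor U.ι).map ((Defo.trivDual k E).act a) := by
  obtain ⟨i, hi, h0, hS⟩ := exists_incl D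
  haveI := Euler.isQuasicoherent_of_isFinLocFree hE
  obtain ⟨V, hxV, s, hs⟩ := exists_section_nhd D.π hE (fun W hW => by
    haveI : (ShortComplex.mk i D.π h0).X₁.IsQuasicoherent := ‹E.IsQuasicoherent›
    exact QCoh.app_surjective_of_isAffineOpen hS hW) x
  let F := Scheme.Modules.restrictFunctor V.ι
  haveI : F.Additive := Functor.additive_of_preserves_binary_products _
  have hFS := hS.map_of_exact F
  let sp := ShortComplex.Splitting.ofExactOfSection _ hFS.exact s hs hFS.mono_f
  let r : F.obj D.sheaf ⟶ F.obj E := sp.r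
  let t : F.obj E ⟶ F.obj D.sheaf := s
  have hid : r ≫ F.map i + F.map D.π ≫ t = 𝟙 _ := sp.id
  have hri : F.map i ≫ r = 𝟙 _ := sp.f_r
  have hst : t ≫ F.map D.π = 𝟙 _ := hs
  have htot : F.map (biprod.fst : E ⊞ E ⟶ E) ≫ F.map biprod.inl +
      F.map (biprod.snd : E ⊞ E ⟶ E) ≫ F.map biprod.inr = 𝟙 _ := by
    rw [← F.map_comp, ← F.map_comp, ← Functor.map_add, biprod.total, F.map_id]
  have hiπ : F.map i ≫ F.map D.π = 0 := by rw [← F.map_comp, h0, F.map_zero]
  have a11 : F.map (biprod.inl : E ⟶ E ⊞ E) ≫ F.map biprod.fst = 𝟙 _ := by rw [← F.map_comp, biprod.inl_fst, F.map_id]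
  have a12 : F.map (biprod.inl : E ⟶ E ⊞ E) ≫ F.map biprod.snd = 0 := by rw [← F.map_comp, biprod.inl_snd, F.map_zero]
  have a21 : F.map (biprod.inr : E ⟶ E ⊞ E) ≫ F.map biprod.fst = 0 := by rw [← F.map_comp, biprod.inr_fst, F.map_zero]
  have a22 : F.map (biprod.inr : E ⟶ E ⊞ E) ≫ F.map biprod.snd = 𝟙 _ := by rw [← F.map_comp, biprod.inr_snd, F.map_id]
  have hsr : t ≫ r = 0 := sp.s_r
  let e : F.obj D.sheaf ≅ F.obj (E ⊞ E) :=
    { hom := F.map D.π ≫ F.map biprod.inl + r ≫ F.map biprod.inr
      inv := F.map biprod.fst ≫ t + F.map biprod.snd ≫ F.map i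
      hom_inv_id := by
        simp only [Preadditive.add_comp, Preadditive.comp_add, Category.assoc, reassoc_of% a11, reassoc_of% a12,
          reassoc_of% a21, reassoc_of% a22, zero_comp, comp_zero, add_zero, zero_add]
        rw [add_comm]
        exact hid
      inv_hom_id := by
        simp only [Preadditive.add_comp, Preadditive.comp_add, Category.assoc, reassoc_of% hst, reassoc_of% hiπ,
          reassoc_of% hri, reassoc_of% hsr, zero_comp, comp_zero, add_zero, zero_add]
        exact htot }
  refine ⟨V, e, hxV, ?_, fun a => ?_⟩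
  · show (F.map D.π ≫ F.map biprod.inl + r ≫ F.map biprod.inr) ≫ F.map biprod.fst = F.map D.π
    rw [Preadditive.add_comp, Category.assoc, Category.assoc, a11, a21, Category.comp_id, comp_zero, add_zero]
  · have hε : F.map (D.act (ε k)) ≫ e.hom = e.hom ≫ F.map ((Defo.trivDual k E).act (ε k)) := by
      rw [show ((Defo.trivDual k E).act (ε k) : E ⊞ E ⟶ E ⊞ E) = biprod.fst ≫ biprod.inr from dualAct_eps E, ← hi,
        F.map_comp, F.map_comp]
      show (F.map D.π ≫ F.map i) ≫ (F.map D.π ≫ F.map biprod.inl + r ≫ F.map biprod.inr) =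
        (F.map D.π ≫ F.map biprod.inl + r ≫ F.map biprod.inr) ≫ F.map biprod.fst ≫ F.map biprod.inr
      simp only [Preadditive.add_comp, Preadditive.comp_add, Category.assoc, reassoc_of% hiπ, reassoc_of% hri,
        reassoc_of% a11, reassoc_of% a21, zero_comp, comp_zero, add_zero, zero_add]
    have hsm : ∀ (c : k) {P Q : X.Modules} (φ : F.obj P ⟶ F.obj Q),
        F.map (Formal.smulMod k P c) ≫ φ = φ ≫ F.map (Formal.smulMod k Q c) := by
      intro c P Q φ
      refine Scheme.Modules.hom_ext _ _ fun W => ?_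
      ext m
      have key : ∀ t : Γ(X, V.ι ''ᵁ W),
          φ.app W (t • (show Γ(P, V.ι ''ᵁ W) from m)) = t • (show Γ(Q, V.ι ''ᵁ W) from φ.app W m) := fun t => by
        have h1 := φ.app_smul ((V.ι.appIso W).hom t) m
        have ht : (V.ι.appIso W).inv ((V.ι.appIso W).hom t) = t :=
          ConcreteCategory.congr_hom (V.ι.appIso W).hom_inv_id t
        have e1 : (P.restrictAppIso V.ι W).hom ((V.ι.appIso W).hom t • m) =
            t • (show Γ(P, V.ι ''ᵁ W) from m) :=
          (Scheme.Modules.smul_restrictAppIso_hom_apply _ _ _ _ _).trans (by rw [ht]; rfl)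
        have e2 : (Q.restrictAppIso V.ι W).hom ((V.ι.appIso W).hom t • φ.app W m) =
            t • (show Γ(Q, V.ι ''ᵁ W) from φ.app W m) :=
          (Scheme.Modules.smul_restrictAppIso_hom_apply _ _ _ _ _).trans (by rw [ht]; rfl)
        exact (congrArg (fun z => φ.app W z) e1.symm).trans (h1.trans e2)
      exact key _
    generalize e.hom = φ at hε ⊢
    rw [act_eq' D a, act_eq' (Defo.trivDual k E) a, F.map_add, F.map_add, F.map_comp, F.map_comp,
      Preadditive.add_comp, Preadditive.comp_add, Category.assoc, hε, ← Category.assoc, hsm _ φ, hsm _ φ,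
      Category.assoc]
    rfl

end GrothLib.DefoExt26
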