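import Groth.Agent.Lib.DefMod26.Basic
import Groth.Agent.Lib.ExtReal.Basic
import Groth.Agent.Lib.ExtEq13.Basic
import Groth.Agent.Lib.FormalExist7.Stalk
import Groth.Prelude.Def_DefoSh2

/-!
# First-order deformations of a module as self-extensions
-/

set_option autoImplicit false
set_option backward.isDefEq.respectTransparency false
universe u

noncomputable section

open CategoryTheory CategoryTheory.Limits AlgebraicGeometry ArtFun ArtFun.Art
open TensorProduct (rid)

namespace GrothLib.DefoExt26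

open DefoSh

variable {k : Type u} [Field k] {X : Scheme.{u}}

theorem stalkLin_eq {M N : X.Modules} (f : M ⟶ N) (p : X) (v : M.presheaf.stalk p) :
    QCoh.stalkLin f p v = RefHull.stalkMapₗ f p v := by
  obtain ⟨U, hU, s, rfl⟩ := TopCat.Presheaf.exists_germ_eq M.presheaf v
  exact (QCoh.stalkLin_germ f hU s).trans (RefHull.stalkMapₗ_germ f p hU s).symm

theorem hom_eq_zero_of_stalk {M N : X.Modules} (f : M ⟶ N)
    (h : ∀ (p : X) (v : M.presheaf.stalk p), RefHull.stalkMapₗ f p v = 0) : f = 0 := by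
  refine (OX.eq_zero_iff f).2 fun p => ?_
  refine ModuleCat.hom_ext (LinearMap.ext fun v => ?_)
  exact (stalkLin_eq f p v).trans (h p v)

variable (k) in
/-- The infinitesimal. -/
abbrev ε : dual k k := (DualNumber.eps : DualNumber k)

theorem decomp (z : dual k k) :
    z = algebraMap k (dual k k) (TrivSqZeroExt.fst (R := k) (M := k) z) +
      algebraMap k (dual k k) (TrivSqZeroExt.snd (R := k) (M := k) z) * ε k := by
  show (z : DualNumber k) = algebraMap k (DualNumber k) (TrivSqZeroExt.fst (R := k) (M := k) z) +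
    algebraMap k (DualNumber k) (TrivSqZeroExt.snd (R := k) (M := k) z) * (DualNumber.eps : DualNumber k)
  refine TrivSqZeroExt.ext ?_ ?_ <;> simp [TrivSqZeroExt.algebraMap_eq_inl]

theorem eps_mul_eps : (ε k : dual k k) * ε k = 0 := DualNumber.eps_mul_eps

theorem mem_max_iff (z : dual k k) :
    z ∈ IsLocalRing.maximalIdeal (dual k k) ↔ ∃ c : k, z = algebraMap k (dual k k) c * ε k := by
  rw [Art.mem_maximalIdeal_iff]
  constructor
  · intro hz
    refine ⟨TrivSqZeroExt.snd (R := k) (M := k) z, ?_⟩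
    conv_lhs => rw [decomp z]
    rw [show TrivSqZeroExt.fst (R := k) (M := k) z = 0 from hz, map_zero, zero_add]
  · rintro ⟨c, rfl⟩
    show TrivSqZeroExt.fst ((algebraMap k (DualNumber k) c) * (DualNumber.eps : DualNumber k)) = 0
    simp

theorem res_eps : (dual k k).res (ε k) = 0 := rfl

/-- A module over the dual numbers whose `ε`-torsion is `ε M` is flat. -/
theorem flat_of_eps {M : Type u} [AddCommGroup M] [Module (dual k k) M]
    (h : ∀ m : M, ε k • m = 0 → ∃ m', m = ε k • m') : Module.Flat (dual k k) M := by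
  rw [Module.Flat.iff_rTensor_injective']
  intro I
  by_cases hI : I = ⊤
  · subst hI
    exact (LinearEquiv.rTensor M (Submodule.topEquiv : (⊤ : Ideal (dual k k)) ≃ₗ[dual k k] (dual k k))).injective
  · have hle : I ≤ IsLocalRing.maximalIdeal (dual k k) := IsLocalRing.le_maximalIdeal hI
    rw [injective_iff_map_eq_zero]
    intro w hw
    by_cases h0 : I = ⊥
    · subst h0
      exact Subsingleton.elim _ _
    obtain ⟨i, hi, hi0⟩ := Submodule.exists_mem_ne_zero_of_ne_bot h0
    obtain ⟨c, rfl⟩ := (mem_max_iff i).1 (hle hi)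
    have hc : c ≠ 0 := fun hc => hi0 (by rw [hc, map_zero, zero_mul])
    have hε : ε k ∈ I := by
      have := I.mul_mem_left (algebraMap k (dual k k) c⁻¹) hi
      rwa [← mul_assoc, ← map_mul, inv_mul_cancel₀ hc, map_one, one_mul] at this
    have key : ∀ w : TensorProduct (dual k k) I M, ∃ m, w = (⟨ε k, hε⟩ : I) ⊗ₜ m := by
      intro w
      induction w using TensorProduct.induction_on with
      | zero => exact ⟨0, (TensorProduct.tmul_zero _ _).symm⟩
      | add a b ha hb =>
        obtain ⟨m, rfl⟩ := ha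
        obtain ⟨m', rfl⟩ := hb
        exact ⟨m + m', (TensorProduct.tmul_add _ _ _).symm⟩
      | tmul a m =>
        obtain ⟨d, hd⟩ := (mem_max_iff a.1).1 (hle a.2)
        refine ⟨algebraMap k (dual k k) d • m, ?_⟩
        rw [← TensorProduct.smul_tmul]
        exact congrArg (· ⊗ₜ m) (Subtype.ext hd)
    obtain ⟨m, rfl⟩ := key w
    rw [LinearMap.rTensor_tmul, Submodule.subtype_apply] at hw
    have hw' : ε k • m = 0 := by simpa using congrArg (TensorProduct.lid (dual k k) M) hw
    obtain ⟨m', rfl⟩ := h m hw'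
    rw [← TensorProduct.smul_tmul]
    rw [show ε k • (⟨ε k, hε⟩ : I) = 0 from Subtype.ext eps_mul_eps, TensorProduct.zero_tmul]

variable [X.Over (Spec (CommRingCat.of k))] {E : X.Modules}

theorem act_eq (D : Defo E (dual k k)) (z : dual k k) :
    D.act z = TrivSqZeroExt.fst (R := k) (M := k) z • (1 : End D.sheaf) +
      TrivSqZeroExt.snd (R := k) (M := k) z • D.act (ε k) := by
  conv_lhs => rw [decomp z]
  rw [map_add, map_mul, AlgHom.commutes, AlgHom.commutes, Algebra.algebraMap_eq_smul_one,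
    Algebra.algebraMap_eq_smul_one, smul_one_mul]

theorem π_ker (D : Defo E (dual k k)) (p : X) (v : D.sheaf.presheaf.stalk p) (hv : RefHull.stalkMapₗ D.π p v = 0) :
    ∃ w, v = RefHull.stalkMapₗ (D.act (ε k)) p w := by
  letI := D.stalkMod p
  have h := D.ker_le p v hv
  refine Submodule.smul_induction_on h (fun a ha m _ => ?_) (fun a b ⟨x, hx⟩ ⟨y, hy⟩ => ⟨x + y, by rw [map_add, ← hx, ← hy]⟩)
  obtain ⟨c, rfl⟩ := (mem_max_iff a).1 ha
  refine ⟨algebraMap k (dual k k) c • m, ?_⟩
  show _ = ε k • algebraMap k (dual k k) c • m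
  rw [← mul_smul, mul_comm]

theorem π_eq_zero_of_eps (D : Defo E (dual k k)) (p : X) (v : D.sheaf.presheaf.stalk p)
    (hv : RefHull.stalkMapₗ (D.act (ε k)) p v = 0) : RefHull.stalkMapₗ D.π p v = 0 := by
  letI := D.stalkMod p
  haveI : Module.Flat (dual k k) (D.sheaf.presheaf.stalk p) := D.flat p
  have h := GrothLib.DefMod26.mem_colon_smul_top (⊥ : Ideal (dual k k)) (ε k) (x := v) (by
    rw [show ε k • v = 0 from hv]; exact Submodule.zero_mem _)
  refine Submodule.smul_induction_on h (fun a ha m _ => ?_) (fun a b ha hb => by rw [map_add, ha, hb, add_zero])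
  show RefHull.stalkMapₗ D.π p (RefHull.stalkMapₗ (D.act a) p m) = 0
  rw [← stalkMapₗ_comp_apply, D.act_π a ?_, stalkMapₗ_zero_apply]
  have h0 : ε k * a = 0 := ha
  by_contra hu
  have hu' : IsUnit a := by
    by_contra h2
    exact hu ((Art.mem_maximalIdeal_iff _ a).1 h2)
  refine (show (ε k : dual k k) ≠ 0 from fun h => ?_) (hu'.mul_left_eq_zero.1 h0)
  simpa using congrArg (TrivSqZeroExt.snd (R := k) (M := k)) h

theorem epi_π (D : Defo E (dual k k)) : Epi D.π :=
  FormalExist7.epi_of_stalk D.π fun p v => by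
    obtain ⟨w, hw⟩ := D.surj p v
    exact ⟨w, (stalkLin_eq _ _ _).trans hw⟩

theorem exists_incl (D : Defo E (dual k k)) :
    ∃ i : E ⟶ D.sheaf, D.π ≫ i = D.act (ε k) ∧ ∃ h0 : i ≫ D.π = 0, (ShortComplex.mk i D.π h0).ShortExact := by
  haveI := epi_π D
  have hk : kernel.ι D.π ≫ D.act (ε k) = 0 := hom_eq_zero_of_stalk _ fun p v => by
    rw [stalkMapₗ_comp_apply]
    obtain ⟨w, hw⟩ := π_ker D p _ (show RefHull.stalkMapₗ D.π p (RefHull.stalkMapₗ (kernel.ι D.π) p v) = 0 by
      rw [← stalkMapₗ_comp_apply, kernel.condition, stalkMapₗ_zero_apply])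
    rw [hw, ← stalkMapₗ_comp_apply]
    have e : D.act (ε k) ≫ D.act (ε k) = (0 : D.sheaf ⟶ D.sheaf) := by
      rw [← End.mul_def, ← map_mul, eps_mul_eps, map_zero]
    rw [e, stalkMapₗ_zero_apply]
  let i : E ⟶ D.sheaf := Abelian.epiDesc D.π (D.act (ε k)) hk
  have hi : D.π ≫ i = D.act (ε k) := Abelian.comp_epiDesc _ _ _
  have h0 : i ≫ D.π = 0 := by
    rw [← cancel_epi D.π, ← Category.assoc, hi, comp_zero]
    exact D.act_π _ res_eps
  refine ⟨i, hi, h0, ?_⟩
  haveI : Mono i := Preadditive.mono_of_cancel_zero _ fun {T} t ht => hom_eq_zero_of_stalk _ fun p v => by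
    obtain ⟨w, hw⟩ := D.surj p (RefHull.stalkMapₗ t p v)
    rw [← hw]
    refine π_eq_zero_of_eps D p w ?_
    rw [← hi, stalkMapₗ_comp_apply, hw, ← stalkMapₗ_comp_apply, ht, stalkMapₗ_zero_apply]
  refine ShortComplex.ShortExact.mk' ((OX.exact_iff _).2 fun p => ?_) ‹Mono i› ‹Epi D.π›
  rw [ShortComplex.moduleCat_exact_iff]
  intro v hv
  obtain ⟨w, hw⟩ := π_ker D p v ((stalkLin_eq D.π p v).symm.trans hv)
  refine ⟨RefHull.stalkMapₗ D.π p w, (stalkLin_eq i p _).trans ?_⟩
  rw [← stalkMapₗ_comp_apply, hi]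
  exact hw.symm

/-- The deformation of an extension. -/
theorem exists_defo {M : X.Modules} (j : E ⟶ M) (g : M ⟶ E) (w : j ≫ g = 0)
    (h : (ShortComplex.mk j g w).ShortExact) :
    ∃ D : Defo E (dual k k), ∃ e : D.sheaf ≅ M, D.π = e.hom ≫ g ∧ D.act (ε k) = D.π ≫ j ≫ e.inv := by
  let s : End M := g ≫ j
  have hs : s * s = 0 := by
    show (g ≫ j) ≫ g ≫ j = 0
    rw [Category.assoc, reassoc_of% w, zero_comp, comp_zero]
  let φ : (dual k k : Art k k) →ₐ[k] End M :=
    (DualNumber.lift ⟨(Algebra.ofId k (End M), s), hs, fun a => (Algebra.commutes a s).symm⟩ :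
      DualNumber k →ₐ[k] End M)
  have hφ : φ (ε k) = s := DualNumber.lift_apply_eps _
  haveI : Mono j := h.mono_f
  haveI : Epi g := h.epi_g
  have hsg : s ≫ g = 0 := by rw [Category.assoc, w, comp_zero]
  have hker : ∀ (p : X) (v : M.presheaf.stalk p), RefHull.stalkMapₗ g p v = 0 →
      ∃ u, RefHull.stalkMapₗ j p u = v := by
    intro p v hv
    have hex := (OX.exact_iff _).1 h.exact p
    rw [ShortComplex.moduleCat_exact_iff] at hex
    obtain ⟨u, hu⟩ := hex v ((stalkLin_eq g p v).trans hv)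
    exact ⟨u, (stalkLin_eq j p u).symm.trans hu⟩
  have hgs : ∀ p, Function.Surjective (RefHull.stalkMapₗ g p) := fun p v => by
    obtain ⟨u, hu⟩ := (ModuleCat.epi_iff_surjective _).1 ((OX.epi_iff g).1 ‹_› p) v
    exact ⟨u, (stalkLin_eq g p u).symm.trans hu⟩
  let D : Defo E (dual k k) :=
    { sheaf := M
      act := φ
      π := g
      act_π := fun a ha => by
        obtain ⟨c, rfl⟩ := (mem_max_iff a).1 ((Art.mem_maximalIdeal_iff _ a).2 ha)
        rw [map_mul, End.mul_def, show φ (ε k) = s from hφ]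
        rw [AlgHom.commutes, Algebra.algebraMap_eq_smul_one]
        change (s ≫ (c • 𝟙 M)) ≫ g = 0
        rw [Linear.comp_smul, Category.comp_id, Linear.smul_comp, hsg, smul_zero]
      surj := hgs
      ker_le := fun p v hv => by
        letI := stalkModule (A := dual k k) M φ.toRingHom p
        obtain ⟨u, rfl⟩ := hker p v hv
        obtain ⟨v', rfl⟩ := hgs p u
        rw [show RefHull.stalkMapₗ j p (RefHull.stalkMapₗ g p v') = (ε k : dual k k) • v' by
          rw [← stalkMapₗ_comp_apply]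
          show _ = RefHull.stalkMapₗ (φ (ε k)) p v'
          rw [show φ (ε k) = s from hφ]]
        exact Submodule.smul_mem_smul ((Art.mem_maximalIdeal_iff _ _).2 res_eps) Submodule.mem_top
      flat := fun p => by
        letI := stalkModule (A := dual k k) M φ.toRingHom p
        refine flat_of_eps fun v hv => ?_
        have hv' : RefHull.stalkMapₗ (g ≫ j) p v = 0 := by
          rw [← hv]
          show _ = RefHull.stalkMapₗ (φ (ε k)) p v
          rw [show φ (ε k) = s from hφ]
        rw [stalkMapₗ_comp_apply] at hv'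
        have hj : Function.Injective (RefHull.stalkMapₗ j p) := fun a b hab => by
          haveI : Mono ((OX.stalk p).map j) := inferInstance
          refine (ModuleCat.mono_iff_injective _).1 this ?_
          exact (stalkLin_eq j p a).trans (hab.trans (stalkLin_eq j p b).symm)
        obtain ⟨u, hu⟩ := hker p v (hj (hv'.trans (map_zero _).symm))
        obtain ⟨v', rfl⟩ := hgs p u
        refine ⟨v', ?_⟩
        show v = RefHull.stalkMapₗ (φ (ε k)) p v'
        rw [show φ (ε k) = s from hφ, stalkMapₗ_comp_apply, hu] }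
  refine ⟨D, Iso.refl M, (Category.id_comp g).symm, ?_⟩
  show φ (ε k) = g ≫ j ≫ 𝟙 M
  rw [Category.comp_id]
  exact hφ

variable [HasExt.{u} X.Modules]

/-- The class of a deformation. -/
def cls (D : Defo E (dual k k)) : Abelian.Ext E E 1 := (exists_incl D).choose_spec.2.choose_spec.extClass

theorem cls_eq (D : Defo E (dual k k)) (i : E ⟶ D.sheaf) (hi : D.π ≫ i = D.act (ε k)) (h0 : i ≫ D.π = 0)
    (hS : (ShortComplex.mk i D.π h0).ShortExact) : cls D = hS.extClass := by
  haveI := epi_π D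
  obtain rfl : i = (exists_incl D).choose := by
    rw [← cancel_epi D.π, hi, (exists_incl D).choose_spec.1]
  rfl

theorem extClass_congr {M M' : X.Modules} {i : E ⟶ M} {g : M ⟶ E} {w : i ≫ g = 0} {i' : E ⟶ M'} {g' : M' ⟶ E}
    {w' : i' ≫ g' = 0} (h : (ShortComplex.mk i g w).ShortExact) (h' : (ShortComplex.mk i' g' w').ShortExact)
    (φ : M ⟶ M') (h₁ : i ≫ φ = i') (h₂ : φ ≫ g' = g) : h.extClass = h'.extClass := by
  let χ : ShortComplex.mk i g w ⟶ ShortComplex.mk i' g' w' :=
    ⟨𝟙 E, φ, 𝟙 E, by simpa using h₁.symm, by simpa using h₂⟩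
  have := ShortComplex.ShortExact.extClass_naturality h h' χ
  simpa [χ] using this

theorem cls_congr {D D' : Defo E (dual k k)} (e : Defo.Iso D D') : cls D = cls D' := by
  obtain ⟨i, hi, h0, hS⟩ := exists_incl D
  obtain ⟨i', hi', h0', hS'⟩ := exists_incl D'
  rw [cls_eq D i hi h0 hS, cls_eq D' i' hi' h0' hS']
  refine extClass_congr hS hS' e.iso.hom ?_ e.hom_π
  haveI := epi_π D
  rw [← cancel_epi D.π, ← Category.assoc, hi, e.act_hom, ← hi', ← Category.assoc, e.hom_π]

variable (k E) in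
/-- The comparison map. -/
def clsMap : FirstOrder k E → Abelian.Ext E E 1 := Quotient.lift cls fun _ _ ⟨e⟩ => cls_congr e

theorem bijective_clsMap : Function.Bijective (clsMap k E) := by
  refine ⟨fun u v h => ?_, fun ξ => ?_⟩
  · induction u using Quotient.inductionOn with | h D => ?_
    induction v using Quotient.inductionOn with | h D' => ?_
    obtain ⟨i, hi, h0, hS⟩ := exists_incl D
    obtain ⟨i', hi', h0', hS'⟩ := exists_incl D'
    have h' : hS.extClass = hS'.extClass := (cls_eq D i hi h0 hS).symm.trans (h.trans (cls_eq D' i' hi' h0' hS'))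
    obtain ⟨φ, hφ, h₁, h₂⟩ := ExtEq13.exists_iso_of_extClass_eq hS hS' h'
    refine Quotient.sound ⟨⟨asIso φ, fun a => ?_, h₂⟩⟩
    have hε : D.act (ε k) ≫ φ = φ ≫ D'.act (ε k) := by
      rw [← hi, ← hi', Category.assoc, h₁, reassoc_of% h₂]
    rw [act_eq D a, act_eq D' a]
    show (_ • 𝟙 D.sheaf + _ • D.act (ε k)) ≫ φ = φ ≫ (_ • 𝟙 D'.sheaf + _ • D'.act (ε k))
    rw [Preadditive.add_comp, Preadditive.comp_add, Linear.smul_comp, Linear.smul_comp, Linear.comp_smul,
      Linear.comp_smul, Category.id_comp, Category.comp_id, hε]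
  · obtain ⟨M, j, g, w, h, rfl⟩ := ExtReal.exists_shortExact ξ
    obtain ⟨D, e, hπ, hε⟩ := exists_defo (k := k) j g w h
    obtain ⟨i, hi, h0, hS⟩ := exists_incl D
    refine ⟨D.cl, ?_⟩
    show cls D = _
    rw [cls_eq D i hi h0 hS]
    refine extClass_congr hS h e.hom ?_ hπ.symm
    haveI := epi_π D
    rw [← cancel_epi D.π, reassoc_of% hi, hε]
    simp

theorem clsMap_trivDual : clsMap k E (Defo.trivDual k E).cl = 0 := by
  obtain ⟨i, hi, h0, hS⟩ := exists_incl (Defo.trivDual k E)
  show cls (Defo.trivDual k E) = 0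
  rw [cls_eq _ i hi h0 hS]
  have h1 : (biprod.inl : E ⟶ E ⊞ E) ≫ (Defo.trivDual k E).π = 𝟙 E := biprod.inl_fst
  have h2 := congrArg (fun t => (Abelian.Ext.mk₀ (biprod.inl : E ⟶ E ⊞ E)).comp t (zero_add 1)) hS.comp_extClass
  simp only [Abelian.Ext.comp_zero, Abelian.Ext.mk₀_comp_mk₀_assoc] at h2
  rw [h1, Abelian.Ext.mk₀_id_comp] at h2
  exact h2

end GrothLib.DefoExt26
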