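import Groth.Agent.Lib.Cech.Opens

/-!
# `H¹` of a Čech complex from a short exact sequence with acyclic middle term

Only surjectivity on the members of the family is needed, not on their intersections.
-/

set_option autoImplicit false
set_option backward.isDefEq.respectTransparency false
universe u

open CategoryTheory Limits Opposite GrothLib.SheafCoh GrothLib.Cech TopologicalSpace

noncomputable section

namespace GrothLib.DefoExt26

variable {C : Type u} [SmallCategory C] {J : GrothendieckTopology C}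
  {D : Type u} [SmallCategory D] [HasFiniteProducts D] (j : D ⥤ C) {ι : Type u} (U : ι → D)
  {T : C} (π : ∀ i, j.obj (U i) ⟶ T)
  (hπ : ∀ (W : D) (i k : ι) (f : W ⟶ U i) (g : W ⟶ U k), j.map f ≫ π i = j.map g ≫ π k)
  (hcov : Sieve.ofArrows (fun i => j.obj (U i)) π ∈ J T)
  (hlift : ∀ (Z : C) (i k : ι) (g₁ : Z ⟶ j.obj (U i)) (g₂ : Z ⟶ j.obj (U k)), g₁ ≫ π i = g₂ ≫ π k →
    ∃ (W : D) (f : W ⟶ U i) (g : W ⟶ U k) (l : Z ⟶ j.obj W), l ≫ j.map f = g₁ ∧ l ≫ j.map g = g₂)

include π hπ hcov hlift in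
theorem exists_delta {S : ShortComplex (Sheaf J AddCommGrpCat.{u})} (hS : S.ShortExact)
    (hsurj : ∀ a : Fin (0 + 1) → ι, Function.Surjective (S.g.hom.app (op (j.obj (obj U a)))))
    (hI : IsZero (((cxFun j U J).obj S.X₂).homology 1)) :
    ∃ δ : S.X₃.obj.obj (op T) →+ ((cxFun j U J).obj S.X₁).homology 1, Function.Surjective δ ∧
      ∀ x, δ x = 0 ↔ ∃ y, S.g.hom.app (op T) y = x := by
  let F := cxFun j U J
  let K := cokernel (F.map S.f)
  let ψ : K ⟶ F.obj S.X₃ := cokernel.desc _ (F.map S.g) (cxShort j U S).zero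
  have hinj : ∀ n, Function.Injective ((F.map S.f).f n) := fun n x y hxy =>
    extS j U fun a => sections_injective hS _ (by rw [← ev_map, ← ev_map]; exact congrArg (evS j U _ a) hxy)
  haveI : Mono (F.map S.f) := by
    refine HomologicalComplex.mono_of_mono_f _ fun n => ?_
    rw [AddCommGrpCat.mono_iff_injective]
    exact hinj n
  let T₀ : ShortComplex (CochainComplex AddCommGrpCat.{u} ℕ) :=
    ShortComplex.mk (F.map S.f) (cokernel.π (F.map S.f)) (cokernel.condition _)
  have hT : T₀.ShortExact := ShortComplex.ShortExact.mk' (ShortComplex.exact_cokernel _) ‹_› inferInstance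
  have hπsurj : ∀ n, Function.Surjective ((cokernel.π (F.map S.f)).f n) := fun n => by
    haveI := hT.map_of_exact (HomologicalComplex.eval AddCommGrpCat.{u} (ComplexShape.up ℕ) n) |>.epi_g
    exact (AddCommGrpCat.epi_iff_surjective _).1 this
  have hψ : ∀ n x, ψ.f n ((cokernel.π (F.map S.f)).f n x) = (F.map S.g).f n x := fun n x =>
    ConcreteCategory.congr_hom (congrArg (fun φ : F.obj S.X₂ ⟶ F.obj S.X₃ => φ.f n) (cokernel.π_desc _ _ _)) x
  have hψinj : ∀ n, Function.Injective (ψ.f n) := fun n => by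
    rw [injective_iff_map_eq_zero]
    intro z hz
    obtain ⟨x, rfl⟩ := hπsurj n z
    rw [hψ] at hz
    have : ∀ a, ∃ r, S.f.hom.app (op (j.obj (obj U a))) r = evS j U S.X₂ a x := fun a => by
      refine sections_exact hS _ _ ?_
      rw [← ev_map, hz, map_zero]
    choose r hr using this
    have hx : x = (F.map S.f).f n (mkS j U S.X₁ r) := extS j U fun a => by
      rw [ev_map, evS_mkS, hr]
    rw [hx]
    exact ConcreteCategory.congr_hom
      (congrArg (fun φ : F.obj S.X₁ ⟶ K => φ.f n) (cokernel.condition (F.map S.f))) _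
  haveI h0iso : IsIso (ψ.f 0) := by
    rw [ConcreteCategory.isIso_iff_bijective]
    refine ⟨hψinj 0, fun z => ?_⟩
    choose r hr using fun a : Fin (0 + 1) → ι => hsurj a (evS j U S.X₃ a z)
    refine ⟨(cokernel.π (F.map S.f)).f 0 (mkS j U S.X₂ r), ?_⟩
    rw [hψ]
    exact extS j U fun a => by rw [ev_map, evS_mkS, hr]
  haveI : IsIso (HomologicalComplex.homologyMap ψ 0) := by
    haveI : ∀ n, Mono (ψ.f n) := fun n => (AddCommGrpCat.mono_iff_injective _).2 (hψinj n)
    let χ := (HomologicalComplex.shortComplexFunctor AddCommGrpCat.{u} (ComplexShape.up ℕ) 0).map ψ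
    haveI : IsIso χ.τ₂ := h0iso
    haveI : Mono χ.τ₃ := (inferInstanceAs (Mono (ψ.f ((ComplexShape.up ℕ).next 0))))
    haveI : Epi χ.τ₁ := by
      show Epi (ψ.f ((ComplexShape.up ℕ).prev 0))
      rw [CochainComplex.prev_nat_zero]
      infer_instance
    exact ShortComplex.isIso_homologyMap_of_epi_of_isIso_of_mono χ
  let e := zeroEquiv j U π hπ hcov hlift
  let h0 := (asIso (HomologicalComplex.homologyMap ψ 0)).addCommGroupIsoToAddEquiv
  refine ⟨(hT.δ 0 1 rfl).hom.comp (h0.symm.toAddMonoidHom.comp (e S.X₃).toAddMonoidHom), ?_, fun x => ?_⟩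
  · have : Epi (hT.δ 0 1 rfl) := (hT.homology_exact₁ 0 1 rfl).epi_f (hI.eq_of_tgt _ _)
    exact ((AddCommGrpCat.epi_iff_surjective _).1 this).comp (h0.symm.surjective.comp (AddEquiv.surjective _))
  · show (hT.δ 0 1 rfl) (h0.symm (e S.X₃ x)) = 0 ↔ _
    have hnat : ∀ t, e S.X₃ (S.g.hom.app (op T) t) = h0 (HomologicalComplex.homologyMap T₀.g 0 (e S.X₂ t)) :=
        fun t => by
      refine (ConcreteCategory.congr_hom (augH_naturality j U π hπ S.g) t).trans ?_
      show HomologicalComplex.homologyMap (F.map S.g) 0 _ =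
        HomologicalComplex.homologyMap ψ 0 (HomologicalComplex.homologyMap (cokernel.π (F.map S.f)) 0 _)
      rw [← ConcreteCategory.comp_apply, ← HomologicalComplex.homologyMap_comp, cokernel.π_desc]
      rfl
    constructor
    · intro hx
      obtain ⟨y, hy⟩ := (ShortComplex.ab_exact_iff _).1 (hT.homology_exact₃ 0 1 rfl) _ hx
      obtain ⟨t, rfl⟩ := (e S.X₂).surjective y
      refine ⟨t, (e S.X₃).injective ?_⟩
      rw [hnat]
      exact (congrArg h0 hy).trans (h0.apply_symm_apply _)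
    · rintro ⟨t, rfl⟩
      rw [hnat, AddEquiv.symm_apply_apply]
      exact ConcreteCategory.congr_hom (hT.comp_δ 0 1 rfl) _

/-- The version for families of opens covering the space. -/
theorem exists_delta_opens {X : TopCat.{u}} {ι : Type u} (U : ι → Opens X) (hU : iSup U = ⊤)
    {S : ShortComplex (CohTop.Ab X)} (hS : S.ShortExact)
    (hsurj : ∀ i, Function.Surjective (S.g.hom.app (op (U i))))
    (hI : IsZero (CohTop.cechH S.X₂.obj U 1)) :
    ∃ δ : S.X₃.obj.obj (op (⊤ : Opens X)) →+ CohTop.cechH S.X₁.obj U 1, Function.Surjective δ ∧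
      ∀ x, δ x = 0 ↔ ∃ y, S.g.hom.app (op (⊤ : Opens X)) y = x :=
  exists_delta (J := Opens.grothendieckTopology X) (𝟭 (Opens X)) U (fun i => homOfLE (le_top : U i ≤ ⊤))
    (fun _ _ _ _ _ => Subsingleton.elim _ _)
    (fun x _ => by
      obtain ⟨i, hi⟩ := Opens.mem_iSup.1 (hU.ge (Opens.mem_top x))
      exact ⟨U i, homOfLE le_top, ⟨U i, 𝟙 _, homOfLE le_top, ⟨i⟩, Category.id_comp _⟩, hi⟩)
    (fun Z i k g₁ g₂ _ => ⟨Z, g₁, g₂, 𝟙 Z, Subsingleton.elim _ _, Subsingleton.elim _ _⟩)
    hS
    (fun a => by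
      rw [show (𝟭 (Opens X)).obj (obj U a) = U (a 0) from ?_]
      · exact hsurj (a 0)
      · show obj U a = U (a 0)
        rw [obj_eq_iInf]
        exact le_antisymm (iInf_le _ 0) (le_iInf fun l => le_of_eq (by rw [Subsingleton.elim (α := Fin 1) l 0])))
    hI

end GrothLib.DefoExt26
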