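import Groth.Agent.Lib.DefoExt26.Basic
import Groth.Agent.Lib.DefoExt26.CechH1
import Groth.Agent.Lib.CechIdx25.Basic
import Groth.Agent.Lib.Cohom.InjModule
import Groth.Agent.Lib.HomColim20.FP
import Groth.Agent.Lib.FinCov.Frame
import Groth.Agent.Lib.Ref1.Frame
import Groth.Agent.Lib.HomSh.QCoh
import Groth.Agent.Lib.Euler.Coh
import Groth.Agent.Lib.QCoh.Extension
import Groth.Agent.Lib.SheafCoh.Compare
import Groth.Agent.Lib.SheafCoh.ModGroth
import Groth.Prelude.Def_CohB1

/-!
# `Ext¹` out of a module free on the members of an affine cover by two opens, as Čech `H¹` of the sheaf Hom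
-/

set_option autoImplicit false
set_option linter.style.haveILetI false
set_option backward.isDefEq.respectTransparency false
universe u

noncomputable section

open CategoryTheory CategoryTheory.Limits AlgebraicGeometry Opposite TopologicalSpace Abelian

namespace GrothLib.DefoExt26

open DefoSh

variable {X : Scheme.{u}} {E : X.Modules}

theorem stalkMapₗ_app {G G' : X.Modules} (φ : G ⟶ G') {U : X.Opens} (x : X) (hx : x ∈ U) (m : Γ(G, U)) :
    G'.presheaf.germ U x hx (φ.app U m) = RefHull.stalkMapₗ φ x (G.presheaf.germ U x hx m) :=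
  (RefHull.stalkMapₗ_germ φ x hx m).symm

variable (E) in
/-- Postcomposition on sections of the sheaf Hom. -/
def postFun {G G' : X.Modules} (φ : G ⟶ G') (U : X.Opens) :
    Γ(RefHull.homSh E G, U) →+ Γ(RefHull.homSh E G', U) where
  toFun g := ⟨fun y => (RefHull.stalkMapₗ φ y.1).comp (g.1 y), fun V i m x => by
    obtain ⟨W, hW, j, n, w⟩ := RefHull.isLocSect_of_mem g V i m x
    refine ⟨W, hW, j, φ.app W n, fun y => ?_⟩
    rw [LinearMap.comp_apply, stalkMapₗ_app φ y.1 y.2 n]
    exact congrArg _ (w y)⟩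
  map_zero' := Subtype.ext (funext fun y => LinearMap.comp_zero _)
  map_add' g h := Subtype.ext (funext fun y => LinearMap.comp_add _ _ _)

variable (E) in
/-- Postcomposition as a morphism of sheaves. -/
def post {G G' : X.Modules} (φ : G ⟶ G') : Coh.toAb (RefHull.homSh E G) ⟶ Coh.toAb (RefHull.homSh E G') :=
  ⟨{ app := fun U => AddCommGrpCat.ofHom (postFun E φ U.unop)
     naturality := fun _ _ _ => rfl }⟩

theorem post_apply {G G' : X.Modules} (φ : G ⟶ G') (U : X.Opens) (g : Γ(RefHull.homSh E G, U)) (y : X)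
    (hy : y ∈ U) : ((post E φ).hom.app (op U) g).1 ⟨y, hy⟩ = (RefHull.stalkMapₗ φ y).comp (g.1 ⟨y, hy⟩) :=
  rfl

variable {n : ℕ}

theorem genOn_of_isFrame {U : X.Opens} {e : Fin n → Γ(E, U)} (he : FinCov.IsFrame E U e) :
    HomSh.GenOn E U (fun i : ULift.{u} (Fin n) => e i.down) := fun y hy => by
  refine eq_top_iff.2 fun v _ => ?_
  obtain ⟨c, rfl⟩ := (Ref1.stalk_of_isFrame he y hy).2 v
  rw [Ref1.stalkComb, Fintype.linearCombination_apply]
  exact Submodule.sum_mem _ fun i _ => Submodule.smul_mem _ _ (Submodule.subset_span ⟨⟨i⟩, rfl⟩)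

theorem relOn_of_isFrame {U : X.Opens} {e : Fin n → Γ(E, U)} (he : FinCov.IsFrame E U e) :
    HomSh.RelOn E (fun i : ULift.{u} (Fin n) => e i.down) (fun k : PEmpty.{u + 1} => k.elim) := fun y hy => by
  refine ⟨fun k => k.elim, fun c hc => ?_⟩
  have h : Ref1.stalkComb e y hy (fun i => c ⟨i⟩) = 0 := by
    rw [Ref1.stalkComb, Fintype.linearCombination_apply]
    exact (Equiv.ulift.symm.sum_comp (fun i : ULift.{u} (Fin n) => c i • E.presheaf.germ U y hy (e i.down))).trans hc
  have h0 := (Ref1.stalk_of_isFrame he y hy).1 (h.trans (map_zero _).symm)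
  rw [show c = 0 from funext fun i => congrFun h0 i.down]
  exact Submodule.zero_mem _

/-- Sections of the sheaf Hom out of a frame are given by the values. -/
theorem exists_section_frame (G : X.Modules) {U : X.Opens} {e : Fin n → Γ(E, U)} (he : FinCov.IsFrame E U e)
    {W : X.Opens} (hW : W ≤ U) (v : Fin n → Γ(G, W)) :
    ∃ g : Γ(RefHull.homSh E G, W), ∀ (y : X) (hy : y ∈ W) (i : Fin n),
      g.1 ⟨y, hy⟩ (E.presheaf.germ U y (hW hy) (e i)) = G.presheaf.germ W y hy (v i) := by
  obtain ⟨g, hg⟩ := HomSh.exists_section_of_relOn E G (genOn_of_isFrame he) (relOn_of_isFrame he) hW le_rfl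
    (fun i : ULift.{u} (Fin n) => v i.down) (fun k => k.elim)
  exact ⟨g, fun y hy i => hg y hy ⟨i⟩⟩

theorem ext_frame {G : X.Modules} {U : X.Opens} {e : Fin n → Γ(E, U)} (he : FinCov.IsFrame E U e)
    {W : X.Opens} (hW : W ≤ U) {g g' : Γ(RefHull.homSh E G, W)}
    (h : ∀ (y : X) (hy : y ∈ W) (i : Fin n), g.1 ⟨y, hy⟩ (E.presheaf.germ U y (hW hy) (e i)) =
      g'.1 ⟨y, hy⟩ (E.presheaf.germ U y (hW hy) (e i))) : g = g' :=
  HomSh.ext_of_genOn hW (genOn_of_isFrame he) g g' fun y hy i => h y hy i.down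

theorem exists_values {G : X.Modules} {U : X.Opens} (e : Fin n → Γ(E, U)) {W : X.Opens} (hW : W ≤ U)
    (g : Γ(RefHull.homSh E G, W)) : ∃ v : Fin n → Γ(G, W), ∀ (y : X) (hy : y ∈ W) (i : Fin n),
      g.1 ⟨y, hy⟩ (E.presheaf.germ U y (hW hy) (e i)) = G.presheaf.germ W y hy (v i) :=
  ⟨fun i => HomSh.applyGens (m := fun i : ULift.{u} (Fin n) => e i.down) hW g (ULift.up i), fun y hy i =>
    (HomSh.germ_applyGens (m := fun i : ULift.{u} (Fin n) => e i.down) hW g (ULift.up i) y hy).symm⟩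

/-- Postcomposition with a morphism surjective on sections over a framed open is surjective there. -/
theorem post_surjective {G G' : X.Modules} (φ : G ⟶ G') {U : X.Opens} {e : Fin n → Γ(E, U)}
    (he : FinCov.IsFrame E U e) {W : X.Opens} (hW : W ≤ U) (hφ : Function.Surjective (φ.app W))
    (g : Γ(RefHull.homSh E G', W)) : ∃ g', (post E φ).hom.app (op W) g' = g := by
  obtain ⟨v, hv⟩ := exists_values e hW g
  choose w hw using fun i => hφ (v i)
  obtain ⟨g', hg'⟩ := exists_section_frame G he hW w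
  refine ⟨g', ext_frame he hW fun y hy i => ?_⟩
  rw [post_apply, LinearMap.comp_apply, hg', ← stalkMapₗ_app, hw, hv]

variable {S : ShortComplex X.Modules} (hS : S.ShortExact)

variable (E S) in
/-- The sequence of sheaves of homomorphisms. -/
def homSeq : ShortComplex (CohTop.Ab X.carrier) :=
  ShortComplex.mk (post E S.f) (post E S.g) (by
    refine Sheaf.hom_ext (NatTrans.ext (funext fun U => ConcreteCategory.hom_ext _ _ fun g => ?_))
    refine Subtype.ext (funext fun y => LinearMap.ext fun v => ?_)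
    show RefHull.stalkMapₗ S.g y.1 (RefHull.stalkMapₗ S.f y.1 _) = 0
    rw [← stalkMapₗ_comp_apply, S.zero, stalkMapₗ_zero_apply])

include hS

theorem stalkMapₗ_injective (y : X) : Function.Injective (RefHull.stalkMapₗ S.f y) := fun a b hab => by
  haveI : Mono S.f := hS.mono_f
  haveI : Mono ((OX.stalk y).map S.f) := inferInstance
  exact (ModuleCat.mono_iff_injective _).1 this
    ((stalkLin_eq S.f y a).trans (hab.trans (stalkLin_eq S.f y b).symm))

theorem exists_of_stalk_eq_zero (y : X) (v : S.X₂.presheaf.stalk y) (hv : RefHull.stalkMapₗ S.g y v = 0) :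
    ∃ u, RefHull.stalkMapₗ S.f y u = v := by
  have hex := (OX.exact_iff _).1 hS.exact y
  rw [ShortComplex.moduleCat_exact_iff] at hex
  obtain ⟨u, hu⟩ := hex v ((stalkLin_eq S.g y v).trans hv)
  exact ⟨u, (stalkLin_eq S.f y u).symm.trans hu⟩

theorem homSeq_shortExact (hE : ∀ x : X, ∃ (U : X.Opens) (n : ℕ) (e : Fin n → Γ(E, U)), x ∈ U ∧ FinCov.IsFrame E U e)
    [S.X₁.IsQuasicoherent] : (homSeq E S).ShortExact := by
  have hinj : ∀ W : X.Opens, Function.Injective ((post E S.f).hom.app (op W)) := fun W g g' h =>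
    Subtype.ext (funext fun y => LinearMap.ext fun v => stalkMapₗ_injective hS y.1
      (LinearMap.congr_fun (congrFun (congrArg Subtype.val h) y) v))
  haveI : Mono (homSeq E S).f := by
    haveI : Mono ((sheafToPresheaf _ _).map (post E S.f)) := by
      rw [NatTrans.mono_iff_mono_app]
      exact fun W => (AddCommGrpCat.mono_iff_injective _).2 (hinj W.unop)
    exact (sheafToPresheaf _ _).mono_of_mono_map this
  haveI : Epi (homSeq E S).g := by
    rw [← Sheaf.isLocallySurjective_iff_epi']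
    refine ⟨fun {W} g => ?_⟩
    intro x hx
    obtain ⟨U, n, e, hxU, he⟩ := hE x
    obtain ⟨V, hV, hxV, hVW⟩ := exists_isAffineOpen_mem_and_subset (show x ∈ W ⊓ U from ⟨hx, hxU⟩)
    refine ⟨V, homOfLE fun y hy => (hVW hy).1, ?_, hxV⟩
    exact post_surjective S.g he (fun y hy => (hVW hy).2) (QCoh.app_surjective_of_isAffineOpen hS hV) _
  refine ShortComplex.ShortExact.mk' ?_ inferInstance inferInstance
  refine ShortComplex.exact_of_f_is_kernel _ ?_
  refine KernelFork.IsLimit.ofι' _ _ fun {A} k hk => ?_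
  have key : ∀ (W : X.Opens) (t : A.obj.obj (op W)), ∃ r, (post E S.f).hom.app (op W) r = k.hom.app (op W) t := by
    intro W t
    let g : Γ(RefHull.homSh E S.X₂, W) := k.hom.app (op W) t
    have hg : ∀ (y : X) (hy : y ∈ W) v, RefHull.stalkMapₗ S.g y (g.1 ⟨y, hy⟩ v) = 0 := fun y hy v =>
      LinearMap.congr_fun (congrFun (congrArg Subtype.val
        (ConcreteCategory.congr_hom (congrArg (fun φ : A ⟶ _ => φ.hom.app (op W)) hk) t)) ⟨y, hy⟩) v
    choose r hr using fun (y : W) v => exists_of_stalk_eq_zero hS y.1 _ (hg y.1 y.2 v)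
    let f : ∀ y : W, RefHull.StalkHom E S.X₁ y.1 := fun y =>
      { toFun := r y
        map_add' := fun a b => stalkMapₗ_injective hS y.1 (by rw [map_add, hr, hr, hr, map_add])
        map_smul' := fun c a => stalkMapₗ_injective hS y.1 (by rw [RingHom.id_apply, map_smul, hr, hr, map_smul]) }
    refine ⟨⟨f, fun V i m x => ?_⟩, Subtype.ext (funext fun y => LinearMap.ext fun v => hr y v)⟩
    obtain ⟨W', hW', j, m', w⟩ := RefHull.isLocSect_of_mem g V i m x
    have hz : S.g.app W' m' = 0 := by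
      refine TopCat.Presheaf.section_ext (C := Ab.{u}) (X := X.carrier) ⟨S.X₃.presheaf, S.X₃.isSheaf⟩ _ _ _
        fun y hy => ?_
      change S.X₃.presheaf.germ W' y hy _ = S.X₃.presheaf.germ W' y hy 0
      rw [stalkMapₗ_app, map_zero]
      exact (congrArg _ (w ⟨y, hy⟩).symm).trans (hg _ _ _)
    obtain ⟨a, ha⟩ := QCoh.app_exact hS W' m' hz
    refine ⟨W', hW', j, a, fun y => stalkMapₗ_injective hS y.1 ?_⟩
    rw [RefHull.stalkMapₗ_germ, ha]
    exact (hr ⟨y.1, _⟩ _).trans (w y)
  choose r hr using key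
  let α : A.obj ⟶ (Coh.toAb (RefHull.homSh E S.X₁)).obj :=
    { app := fun W => AddCommGrpCat.ofHom
        { toFun := r W.unop
          map_zero' := hinj _ (by rw [hr, map_zero, map_zero])
          map_add' := fun a b => hinj _ (by rw [hr, map_add, map_add, hr, hr]) }
      naturality := fun W W' i => by
        ext t
        refine hinj W'.unop ?_
        show (post E S.f).hom.app W' (r W'.unop (A.obj.map i t)) =
          (post E S.f).hom.app W' ((Coh.toAb (RefHull.homSh E S.X₁)).obj.map i (r W.unop t))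
        rw [hr]
        refine ((ConcreteCategory.congr_hom (k.hom.naturality i) t).trans ?_)
        refine (congrArg (fun z => (Coh.toAb (RefHull.homSh E S.X₂)).obj.map i z) (hr W.unop t).symm).trans ?_
        exact (ConcreteCategory.congr_hom ((post E S.f).hom.naturality i) (r W.unop t)).symm }
  refine ⟨⟨α⟩, ?_⟩
  exact Sheaf.hom_ext (NatTrans.ext (funext fun W => ConcreteCategory.hom_ext _ _ fun t => hr W.unop t))

omit hS

theorem isZero_cechH_homSh (I : X.Modules) [Injective I] {ι : Type u} (U : ι → X.Opens) [Finite ι]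
    (hcov : iSup U = ⊤) (hE : ∀ i, ∃ e : Fin n → Γ(E, U i), FinCov.IsFrame E (U i) e) :
    IsZero (CohB1.cechH U (RefHull.homSh E I) 1) := by
  classical
  haveI := Fintype.ofFinite ι
  refine CechIdx25.isZero_cechH (X := X.carrier) U (Coh.toAb (RefHull.homSh E I)) ?_ 0
  intro κ a g
  have hfl := Cohom.isFlasque_toAb_of_injective I
  have key : ∀ s : Finset ι, ∀ V : X.Opens, ∀ g : Γ(RefHull.homSh E I, V),
      ∃ g' : Γ(RefHull.homSh E I, V ⊔ s.sup U), ∀ y (hy : y ∈ V), g'.1 ⟨y, Or.inl hy⟩ = g.1 ⟨y, hy⟩ := by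
    intro s
    induction s using Finset.induction with
    | empty =>
      intro V g
      refine ⟨(RefHull.homSh E I).presheaf.map (homOfLE ?_).op g, fun y hy => rfl⟩
      simp
    | @insert i s _ ih =>
      intro V g
      obtain ⟨g₁, hg₁⟩ := ih V g
      let V₁ := V ⊔ s.sup U
      obtain ⟨e, he⟩ := hE i
      obtain ⟨v, hv⟩ := exists_values e (inf_le_right : V₁ ⊓ U i ≤ U i)
        ((RefHull.homSh E I).presheaf.map (homOfLE inf_le_left).op g₁)
      haveI := hfl
      choose w hw using fun l => (AddCommGrpCat.epi_iff_surjective _).1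
        (TopCat.Presheaf.IsFlasque.epi (F := ((QCoh.toAbFun X).obj I).obj) (homOfLE (inf_le_right : V₁ ⊓ U i ≤ U i)).op) (v l)
      obtain ⟨g₂, hg₂⟩ := exists_section_frame I he le_rfl w
      have hagree : ∀ y (h₁ : y ∈ V₁) (h₂ : y ∈ U i), g₁.1 ⟨y, h₁⟩ = g₂.1 ⟨y, h₂⟩ := by
        intro y h₁ h₂
        refine LinearMap.ext_on_range (genOn_of_isFrame he y h₂) fun l => ?_
        refine (hv y ⟨h₁, h₂⟩ l.down).trans ?_
        rw [hg₂ y h₂ l.down, ← hw l.down]
        exact TopCat.Presheaf.germ_res_apply I.presheaf _ _ _ _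
      have hle : V ⊔ (insert i s).sup U = V₁ ⊔ U i := by
        rw [Finset.sup_insert]; simp only [V₁]; ac_rfl
      let f : ∀ y : ↑(V ⊔ (insert i s).sup U), RefHull.StalkHom E I y.1 := fun y =>
        if h : y.1 ∈ U i then g₂.1 ⟨y.1, h⟩ else g₁.1 ⟨y.1, (hle.le y.2).resolve_right h⟩
      have hf₁ : ∀ y (hy : y.1 ∈ V₁), f y = g₁.1 ⟨y.1, hy⟩ := fun y hy => by
        simp only [f]
        split
        · exact (hagree _ hy _).symm
        · rfl
      have hf₂ : ∀ y (hy : y.1 ∈ U i), f y = g₂.1 ⟨y.1, hy⟩ := fun y hy => dif_pos hy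
      refine ⟨⟨f, fun W j m x => ?_⟩, fun y hy => (hf₁ _ (Or.inl hy)).trans (hg₁ y hy)⟩
      rcases hle.le (j.le x.2) with hx | hx
      · obtain ⟨W', hW', j', m', w'⟩ := RefHull.isLocSect_of_mem g₁ (W ⊓ V₁) (homOfLE inf_le_right)
          (E.presheaf.map (homOfLE inf_le_left).op m) ⟨x.1, x.2, hx⟩
        refine ⟨W', hW', j' ≫ homOfLE inf_le_left, m', fun y => ?_⟩
        refine Eq.trans ?_ (w' y)
        rw [TopCat.Presheaf.germ_res_apply, hf₁ ⟨y.1, _⟩ (j'.le y.2).2]
      · obtain ⟨W', hW', j', m', w'⟩ := RefHull.isLocSect_of_mem g₂ (W ⊓ U i) (homOfLE inf_le_right)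
          (E.presheaf.map (homOfLE inf_le_left).op m) ⟨x.1, x.2, hx⟩
        refine ⟨W', hW', j' ≫ homOfLE inf_le_left, m', fun y => ?_⟩
        refine Eq.trans ?_ (w' y)
        rw [TopCat.Presheaf.germ_res_apply, hf₂ ⟨y.1, _⟩ (j'.le y.2).2]
  obtain ⟨g', hg'⟩ := key Finset.univ _ g
  refine ⟨(RefHull.homSh E I).presheaf.map (homOfLE ?_).op g', ?_⟩
  · rw [Finset.sup_univ_eq_iSup]
    exact le_sup_right
  · exact Subtype.ext (funext fun y => hg' y.1 y.2)

theorem exists_ext_equiv [HasExt.{u} X.Modules] {ι : Type u} [Finite ι] (U : ι → X.Opens)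
    (hU : ∀ i, IsAffineOpen (U i)) (hcov : iSup U = ⊤)
    (hE : ∀ i, ∃ e : Fin n → Γ(E, U i), FinCov.IsFrame E (U i) e) [E.IsQuasicoherent] :
    Nonempty (Ext.{u} E E 1 ≃+ CohB1.cechH U (RefHull.homSh E E) 1) := by
  haveI : EnoughInjectives X.Modules := SheafCoh.enoughInjectives_sheafOfModules X.ringCatSheaf
  let S : ShortComplex X.Modules :=
    ShortComplex.mk (Injective.ι E) (cokernel.π (Injective.ι E)) (cokernel.condition _)
  have hS : S.ShortExact :=
    ShortComplex.ShortExact.mk' (ShortComplex.exact_cokernel _) (inferInstanceAs (Mono (Injective.ι E)))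
      (inferInstanceAs (Epi (cokernel.π _)))
  haveI : S.X₁.IsQuasicoherent := ‹E.IsQuasicoherent›
  haveI : Injective S.X₂ := inferInstanceAs (Injective (Injective.under E))
  have hfr : ∀ x : X, ∃ (U : X.Opens) (n : ℕ) (e : Fin n → Γ(E, U)), x ∈ U ∧ FinCov.IsFrame E U e := fun x => by
    obtain ⟨i, hi⟩ := Opens.mem_iSup.1 (hcov.ge (Opens.mem_top x))
    obtain ⟨e, he⟩ := hE i
    exact ⟨U i, n, e, hi, he⟩
  obtain ⟨δ, hδ, hker⟩ := exists_delta_opens (X := X.carrier) U hcov (homSeq_shortExact hS hfr)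
    (fun i => fun g => by
      obtain ⟨e, he⟩ := hE i
      exact post_surjective S.g he le_rfl (QCoh.app_surjective_of_isAffineOpen hS (hU i)) g)
    (isZero_cechH_homSh S.X₂ U hcov hE)
  let v : (E ⟶ S.X₃) →+ Γ(RefHull.homSh E S.X₃, ⊤) :=
    { toFun := fun φ => RefHull.ofHom φ ⊤
      map_zero' := Subtype.ext (funext fun y => LinearMap.ext fun w => stalkMapₗ_zero_apply y.1 w)
      map_add' := fun φ ψ => Subtype.ext (funext fun y => LinearMap.ext fun w => by
        obtain ⟨W, hW, m, rfl⟩ := TopCat.Presheaf.exists_germ_eq E.presheaf w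
        show RefHull.stalkMapₗ (φ + ψ) y.1 _ = RefHull.stalkMapₗ φ y.1 _ + RefHull.stalkMapₗ ψ y.1 _
        rw [RefHull.stalkMapₗ_germ, RefHull.stalkMapₗ_germ, RefHull.stalkMapₗ_germ, ← map_add]
        rfl) }
  have hv : Function.Bijective v := by
    refine ⟨fun φ ψ h => ?_, fun g => ?_⟩
    · exact HomColim20.hom_ext_stalkLin fun y w => (stalkLin_eq φ y w).trans
        ((LinearMap.congr_fun (congrFun (congrArg Subtype.val h) ⟨y, trivial⟩) w).trans (stalkLin_eq ψ y w).symm)
    · obtain ⟨φ, hφ⟩ := HomColim20.exists_hom_of_section g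
      exact ⟨φ, Subtype.ext (funext fun y => LinearMap.ext fun w => (stalkLin_eq φ y.1 w).symm.trans (hφ y.1 w))⟩
  obtain ⟨e, -⟩ := DimShift.exists_equiv_of_ker (SheafCoh.deltaHom.{u} (X := E) hS)
    (SheafCoh.deltaHom_surjective hS (Ext.subsingleton_of_injective _ _ _)) δ hδ (AddEquiv.ofBijective v hv)
    fun φ => by
      rw [SheafCoh.deltaHom_eq_zero_iff, hker]
      show (∃ g', g' ≫ S.g = φ) ↔ ∃ y, (post E S.g).hom.app (op ⊤) y = RefHull.ofHom φ ⊤
      constructor
      · rintro ⟨ψ, rfl⟩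
        exact ⟨RefHull.ofHom ψ ⊤, Subtype.ext (funext fun y => LinearMap.ext fun w =>
          (stalkMapₗ_comp_apply (p := y.1) ψ S.g w).symm)⟩
      · rintro ⟨g, hg⟩
        obtain ⟨ψ, hψ⟩ := HomColim20.exists_hom_of_section g
        refine ⟨ψ, hv.1 (Eq.trans ?_ hg)⟩
        exact Subtype.ext (funext fun y => LinearMap.ext fun w => (stalkMapₗ_comp_apply (p := y.1) ψ S.g w).trans
          (congrArg _ ((stalkLin_eq ψ y.1 w).symm.trans (hψ y.1 w))))
  exact ⟨e⟩

end GrothLib.DefoExt26
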